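import Groth.Agent.FlatMor67.PCHom
import Groth.Agent.DR39.PC3
import Groth.Prelude.Def_DerCA

/-! Pseudo-coherence relative to a base ring: independence of the presentation and first closure properties. -/

set_option autoImplicit false
set_option backward.isDefEq.respectTransparency.types false
set_option linter.style.haveILetI false

universe u

open CategoryTheory CategoryTheory.Limits CategoryTheory.Pretriangulated
open scoped TensorProduct

attribute [local instance] HasDerivedCategory.standard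

namespace Groth.Agent.RelPC41

open DR39 FlatMor67

/-- `m`-pseudo-coherence after restriction of scalars along `φ`. -/
abbrev RPC {P A : Type u} [CommRing P] [CommRing A] (φ : P →+* A) (m : ℤ) (K : Dual.D A) : Prop :=
  PC m ((DRing.restrictD φ).obj K)

section Generic

variable {A B C : Type u} [CommRing A] [CommRing B] [CommRing C]

theorem pc_iso_iff {m : ℤ} {X Y : Dual.D A} (e : X ≅ Y) : PC m X ↔ PC m Y :=
  ⟨fun h => h.of_iso e, fun h => h.of_iso e.symm⟩

/-- Restriction of scalars along a composition. -/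
theorem restrictD_comp (φ : A →+* B) (ψ : B →+* C) (K : Dual.D C) :
    Nonempty ((DRing.restrictD (ψ.comp φ)).obj K ≅
      (DRing.restrictD φ).obj ((DRing.restrictD ψ).obj K)) := by
  obtain ⟨E, ⟨e⟩⟩ := exists_complex_iso K
  let F : (DRing.restrictCx (ψ.comp φ)).obj E ≅ (DRing.restrictCx φ).obj ((DRing.restrictCx ψ).obj E) :=
    HomologicalComplex.Hom.isoOfComponents
      (fun i => (ModuleCat.restrictScalarsComp.{u, u, u, u} φ ψ).app (E.X i))
      (fun i j _ => ((ModuleCat.restrictScalarsComp.{u, u, u, u} φ ψ).hom.naturality (E.d i j)).symm)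
  exact ⟨(DRing.restrictD _).mapIso e.symm ≪≫ restrictDIso _ E ≪≫ (QA A).mapIso F ≪≫
    (restrictDIso φ _).symm ≪≫ (DRing.restrictD φ).mapIso (restrictDIso ψ E).symm ≪≫
    (DRing.restrictD φ).mapIso ((DRing.restrictD ψ).mapIso e)⟩

theorem rpc_comp_iff (φ : A →+* B) (ψ : B →+* C) (m : ℤ) (K : Dual.D C) :
    RPC (ψ.comp φ) m K ↔ RPC φ m ((DRing.restrictD ψ).obj K) := by
  obtain ⟨e⟩ := restrictD_comp φ ψ K
  exact pc_iso_iff e

theorem pc_self' (φ : A →+* B)
    (h : letI := φ.toAlgebra; DRing.IsPseudoCoherentModule' A B) (n : ℤ) :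
    PC n (Dual.inD A ((ModuleCat.restrictScalars φ).obj (ModuleCat.of B B))) := by
  letI := φ.toAlgebra
  exact PCM.pc_self h n

/-- Over a pseudo-coherent algebra, relative pseudo-coherence may be tested over either ring. -/
theorem rpc_comp_pc (φ : A →+* B)
    (hB : ∀ n, PC n (Dual.inD A ((ModuleCat.restrictScalars φ).obj (ModuleCat.of B B))))
    (ψ : B →+* C) (m : ℤ) (K : Dual.D C) : RPC (ψ.comp φ) m K ↔ RPC ψ m K :=
  (rpc_comp_iff φ ψ m K).trans (pc_restrict_iff φ hB _ m).symm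

theorem isZero_HF_restrictD_iff (φ : A →+* B) (K : Dual.D B) (i : ℤ) :
    IsZero ((HF A i).obj ((DRing.restrictD φ).obj K)) ↔ IsZero ((HF B i).obj K) :=
  isZero_DF_iff_of_faithful _ (isZero_of_isZero_restrict φ) K i

theorem acyc_restrictD_iff (φ : A →+* B) (K : Dual.D B) (b : ℤ) :
    Acyc b ((DRing.restrictD φ).obj K) ↔ Acyc b K :=
  forall₂_congr fun i _ => isZero_HF_restrictD_iff φ K i

theorem finite_restrict_iff (φ : A →+* B) (hφ : Function.Surjective φ) (M : ModuleCat.{u} B) :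
    Module.Finite A ((ModuleCat.restrictScalars φ).obj M) ↔ Module.Finite B M := by
  refine ⟨finite_of_finite_restrict φ M, fun h => ?_⟩
  letI := φ.toAlgebra
  letI : Module A M := Module.compHom M φ
  haveI : IsScalarTower A B M := ⟨fun a b m => by
    show (φ a * b) • m = φ a • b • m
    rw [mul_smul]⟩
  haveI : Module.Finite A B := Module.Finite.of_surjective (Algebra.linearMap A B) hφ
  exact (Module.Finite.trans B (M : Type u) : Module.Finite A (M : Type u))

theorem finite_HF_restrictD_iff (φ : A →+* B) (hφ : Function.Surjective φ) (K : Dual.D B) (i : ℤ) :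
    Module.Finite A ((HF A i).obj ((DRing.restrictD φ).obj K)) ↔
      Module.Finite B ((HF B i).obj K) := by
  obtain ⟨e⟩ := HF_DF (ModuleCat.restrictScalars.{u} φ) K i
  rw [← finite_restrict_iff φ hφ]
  exact ⟨fun h => Module.Finite.equiv e.toLinearEquiv, fun h => Module.Finite.equiv e.toLinearEquiv.symm⟩

end Generic

section Indep

variable {R A : Type u} [CommRing R] [CommRing A] [Algebra R A]

/-- Independence of the flat finitely presented algebra surjecting onto `A`. -/
theorem rpc_indep (P₁ P₂ : Type u) [CommRing P₁] [CommRing P₂] [Algebra R P₁] [Algebra R P₂]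
    [Module.Flat R P₁] [Algebra.FinitePresentation R P₁] [Module.Flat R P₂]
    [Algebra.FinitePresentation R P₂] (φ₁ : P₁ →ₐ[R] A) (h₁ : Function.Surjective φ₁)
    (φ₂ : P₂ →ₐ[R] A) (h₂ : Function.Surjective φ₂) (m : ℤ) (K : Dual.D A) :
    RPC (φ₁ : P₁ →+* A) m K ↔ RPC (φ₂ : P₂ →+* A) m K := by
  obtain ⟨k₁, ρ₁, hρ₁⟩ := PCH.exists_surj R P₁
  obtain ⟨k₂, ρ₂, hρ₂⟩ := PCH.exists_surj R P₂
  choose g₁ hg₁ using fun j : Fin k₂ => h₁ (φ₂ (ρ₂ (MvPolynomial.X j)))
  choose g₂ hg₂ using fun i : Fin k₁ => h₂ (φ₁ (ρ₁ (MvPolynomial.X i)))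
  let T := MvPolynomial (Fin (k₁ + k₂)) R
  let q₁ : T →ₐ[R] P₁ := MvPolynomial.aeval (Fin.append (fun i => ρ₁ (MvPolynomial.X i)) g₁)
  let q₂ : T →ₐ[R] P₂ := MvPolynomial.aeval (Fin.append g₂ (fun j => ρ₂ (MvPolynomial.X j)))
  have hq₁ : Function.Surjective q₁ := by
    intro p
    obtain ⟨x, rfl⟩ := hρ₁ p
    refine ⟨MvPolynomial.rename (Fin.castAdd k₂) x, ?_⟩
    have : q₁.comp (MvPolynomial.rename (Fin.castAdd k₂)) = ρ₁ := MvPolynomial.algHom_ext fun i => by
      show MvPolynomial.aeval _ (MvPolynomial.rename (Fin.castAdd k₂) (MvPolynomial.X i)) = _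
      rw [MvPolynomial.rename_X, MvPolynomial.aeval_X, Fin.append_left]
    exact DFunLike.congr_fun this x
  have hq₂ : Function.Surjective q₂ := by
    intro p
    obtain ⟨x, rfl⟩ := hρ₂ p
    refine ⟨MvPolynomial.rename (Fin.natAdd k₁) x, ?_⟩
    have : q₂.comp (MvPolynomial.rename (Fin.natAdd k₁)) = ρ₂ := MvPolynomial.algHom_ext fun i => by
      show MvPolynomial.aeval _ (MvPolynomial.rename (Fin.natAdd k₁) (MvPolynomial.X i)) = _
      rw [MvPolynomial.rename_X, MvPolynomial.aeval_X, Fin.append_right]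
    exact DFunLike.congr_fun this x
  have hχ : φ₁.comp q₁ = φ₂.comp q₂ := by
    refine MvPolynomial.algHom_ext fun i => ?_
    refine Fin.addCases (fun i => ?_) (fun j => ?_) i
    · simp [q₁, q₂, hg₂]
    · simp [q₁, q₂, hg₁]
  have hpc : ∀ (P : Type u) [CommRing P] [Algebra R P] [Module.Flat R P]
      [Algebra.FinitePresentation R P] (q : T →ₐ[R] P), Function.Surjective q → ∀ n,
      PC n (Dual.inD T ((ModuleCat.restrictScalars (q : T →+* P)).obj (ModuleCat.of P P))) := by
    intro P _ _ _ _ q hq n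
    refine pc_self' (q : T →+* P) ?_ n
    letI := (q : T →+* P).toAlgebra
    haveI : IsScalarTower R T P := IsScalarTower.of_algHom q
    exact PCH.pc'_quotient R T P hq
  rw [← rpc_comp_pc (q₁ : T →+* P₁) (hpc P₁ q₁ hq₁), ← rpc_comp_pc (q₂ : T →+* P₂) (hpc P₂ q₂ hq₂)]
  rw [show (φ₁ : P₁ →+* A).comp (q₁ : T →+* P₁) = (φ₂ : P₂ →+* A).comp (q₂ : T →+* P₂) from
    congrArg AlgHom.toRingHom hχ]

theorem finiteType_of_rel {m : ℤ} {K : Dual.D A} (h : DerCA.IsRelPseudoCoherent R A m K) :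
    Algebra.FiniteType R A := by
  obtain ⟨n, α, hα, -⟩ := h
  exact Algebra.FiniteType.iff_quotient_mvPolynomial''.2 ⟨n, α, hα⟩

/-- The definition, tested on any flat finitely presented algebra surjecting onto `A`. -/
theorem rel_iff {P : Type u} [CommRing P] [Algebra R P] [Module.Flat R P]
    [Algebra.FinitePresentation R P] (φ : P →ₐ[R] A) (hφ : Function.Surjective φ) (m : ℤ)
    (K : Dual.D A) : DerCA.IsRelPseudoCoherent R A m K ↔ RPC (φ : P →+* A) m K := by
  constructor
  · rintro ⟨n, α, hα, h⟩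
    exact (rpc_indep _ _ α hα φ hφ m K).1 h
  · intro h
    obtain ⟨k, ρ, hρ⟩ := PCH.exists_surj R P
    exact ⟨k, φ.comp ρ, hφ.comp hρ, (rpc_indep _ _ (φ.comp ρ) (hφ.comp hρ) φ hφ m K).2 h⟩

theorem via_iff {n : ℕ} (α : MvPolynomial (Fin n) R →ₐ[R] A) (hα : Function.Surjective α) (m : ℤ)
    (K : Dual.D A) :
    DerCA.IsRelPseudoCoherent R A m K ↔ RPC (α : MvPolynomial (Fin n) R →+* A) m K :=
  rel_iff α hα m K

theorem rel_of_iso {m : ℤ} {K L : Dual.D A} (e : K ≅ L) (h : DerCA.IsRelPseudoCoherent R A m K) :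
    DerCA.IsRelPseudoCoherent R A m L := by
  obtain ⟨n, α, hα, h⟩ := h
  exact ⟨n, α, hα, PC.of_iso h ((DRing.restrictD _).mapIso e)⟩

theorem rel_iff_pc (hRA : MoreMor.IsPseudoCoherentHom R A) (m : ℤ) (K : Dual.D A) :
    DerCA.IsRelPseudoCoherent R A m K ↔ PC m K := by
  obtain ⟨n, φ, hφ, hpc⟩ := hRA
  rw [via_iff φ hφ]
  exact (pc_restrict_iff _ (pc_self' (φ : MvPolynomial (Fin n) R →+* A) hpc) K m).symm

variable [Algebra.FiniteType R A]

theorem relAll_iff {n : ℕ} (α : MvPolynomial (Fin n) R →ₐ[R] A) (hα : Function.Surjective α)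
    (K : Dual.D A) :
    DerCA.IsRelPseudoCoherentAll R A K ↔ ∀ m, RPC (α : MvPolynomial (Fin n) R →+* A) m K :=
  forall_congr' fun m => via_iff α hα m K

theorem rel_triangle (m : ℤ) (T : Triangle (Dual.D A)) (hT : T ∈ distinguishedTriangles) :
    (DerCA.IsRelPseudoCoherent R A (m + 1) T.obj₁ → DerCA.IsRelPseudoCoherent R A m T.obj₂ →
        DerCA.IsRelPseudoCoherent R A m T.obj₃) ∧
      (DerCA.IsRelPseudoCoherent R A m T.obj₁ → DerCA.IsRelPseudoCoherent R A m T.obj₃ →
        DerCA.IsRelPseudoCoherent R A m T.obj₂) ∧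
      (DerCA.IsRelPseudoCoherent R A (m + 1) T.obj₂ → DerCA.IsRelPseudoCoherent R A m T.obj₃ →
        DerCA.IsRelPseudoCoherent R A (m + 1) T.obj₁) := by
  obtain ⟨n, α, hα⟩ := PCH.exists_surj R A
  simp only [via_iff α hα]
  have h := (DRing.restrictD (α : MvPolynomial (Fin n) R →+* A)).map_distinguished _ hT
  exact ⟨fun h₁ h₂ => PC.obj₃ h h₁ h₂, fun h₁ h₃ => PC.obj₂ h h₁ h₃, fun h₂ h₃ => PC.obj₁ h h₂ h₃⟩

theorem rel_biprod (m : ℤ) (K L : Dual.D A) [HasBinaryBiproduct K L]
    (h : DerCA.IsRelPseudoCoherent R A m (K ⊞ L)) :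
    DerCA.IsRelPseudoCoherent R A m K ∧ DerCA.IsRelPseudoCoherent R A m L := by
  obtain ⟨n, α, hα, h⟩ := h
  let F := DRing.restrictD (α : MvPolynomial (Fin n) R →+* A)
  haveI : F.Additive := inferInstance
  haveI : PreservesBinaryBiproduct K L F := preservesBinaryBiproduct_of_preservesBiproduct F K L
  have h' : PC m (F.obj K ⊞ F.obj L) := PC.of_iso h (F.mapBiprod K L)
  exact ⟨⟨n, α, hα, h'.of_biprod⟩, ⟨n, α, hα, (h'.of_iso (biprod.braiding _ _)).of_biprod⟩⟩

theorem module_iff {n : ℕ} (α : MvPolynomial (Fin n) R →ₐ[R] A) (hα : Function.Surjective α) (m : ℤ)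
    (M : Type u) [AddCommGroup M] [Module A M] :
    DerCA.IsRelPseudoCoherentModule R A m M ↔
      PC m (Dual.inD (MvPolynomial (Fin n) R)
        ((ModuleCat.restrictScalars (α : MvPolynomial (Fin n) R →+* A)).obj (ModuleCat.of A M))) :=
  (via_iff α hα m _).trans (pc_iso_iff (DFinD _ (ModuleCat.of A M)))

theorem rel_module_zero_negOne {n : ℕ} (α : MvPolynomial (Fin n) R →ₐ[R] A)
    (hα : Function.Surjective α) (M : Type u) [AddCommGroup M] [Module A M] :
    (DerCA.IsRelPseudoCoherentModule R A 0 M ↔ Module.Finite A M) ∧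
      (DerCA.IsRelPseudoCoherentModule R A (-1) M ↔
        @Module.FinitePresentation (MvPolynomial (Fin n) R) M _ _ (Module.compHom M α.toRingHom)) := by
  rw [module_iff α hα, module_iff α hα]
  exact ⟨(pcModule_zero_iff _).trans (finite_restrict_iff _ hα (ModuleCat.of A M)), pcModule_negOne_iff _⟩

theorem rel_termwise (m : ℤ) (K : DRing.Cx A) (b : ℤ) (hb : DRing.VanishesAbove K b)
    (h : ∀ i, DerCA.IsRelPseudoCoherentModule R A (m - i) (K.X i)) :
    DerCA.IsRelPseudoCoherent R A m (DRing.toD K) := by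
  obtain ⟨n, α, hα⟩ := PCH.exists_surj R A
  rw [via_iff α hα]
  refine PC.of_iso (pc_of_terms ((DRing.restrictCx (α : MvPolynomial (Fin n) R →+* A)).obj K) b
    (fun i hi => (ModuleCat.restrictScalars _).map_isZero (hb i hi)) fun i _ => ?_) (restrictDIso _ K).symm
  exact (module_iff α hα _ (K.X i)).1 (h i)

theorem rel_homology (m : ℤ) (K : Dual.D A)
    (hb : ∃ b : ℤ, ∀ i : ℤ, b < i → Subsingleton (Dual.HD A K i))
    (h : ∀ i, DerCA.IsRelPseudoCoherentModule R A (m - i) (Dual.HD A K i)) :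
    DerCA.IsRelPseudoCoherent R A m K := by
  obtain ⟨n, α, hα⟩ := PCH.exists_surj R A
  obtain ⟨b, hb⟩ := hb
  rw [via_iff α hα]
  refine pc_of_homology ((acyc_restrictD_iff _ K _).2 (acyc_of_subsingleton hb)) fun i _ => ?_
  obtain ⟨e⟩ := HF_DF (ModuleCat.restrictScalars.{u} (α : MvPolynomial (Fin n) R →+* A)) K i
  exact PC.of_iso ((module_iff α hα _ (Dual.HD A K i)).1 (h i))
    (inDIso e.toLinearEquiv).symm

theorem rel_noetherian [IsNoetherianRing R] (m : ℤ) (K : Dual.D A) :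
    DerCA.IsRelPseudoCoherent R A m K ↔
      (∃ b : ℤ, ∀ i : ℤ, b < i → Subsingleton (Dual.HD A K i)) ∧
        ∀ i : ℤ, m ≤ i → Module.Finite A (Dual.HD A K i) := by
  obtain ⟨n, α, hα⟩ := PCH.exists_surj R A
  rw [via_iff α hα]
  have hfp : ∀ (M : Type u) [AddCommGroup M] [Module (MvPolynomial (Fin n) R) M],
      Module.FinitePresentation (MvPolynomial (Fin n) R) M →
      ∀ k, PC k (Dual.inD (MvPolynomial (Fin n) R) M) := fun M _ _ hM k =>
    pc_inD_of_fp_of_coherent (fun I hI => haveI := Module.Finite.iff_fg.2 hI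
      Module.finitePresentation_of_finite _ I) M hM k
  refine ⟨fun h => ⟨?_, fun i hi => ?_⟩, fun ⟨⟨b, hb⟩, h⟩ => ?_⟩
  · obtain ⟨b, hb⟩ := acyc_of_pc h
    exact ⟨b, fun i hi => (isZero_HF_iff K i).1 ((acyc_restrictD_iff _ K b).1 hb i hi.le)⟩
  · obtain ⟨h0, h1⟩ := homology_of_pc hfp h
    refine (finite_HF_restrictD_iff _ hα K i).1 ?_
    rcases eq_or_lt_of_le hi with rfl | hlt
    · exact h0
    · exact (fun {S : Type u} [CommRing S] {M : Type u} [AddCommGroup M] [Module S M]
        (hh : Module.FinitePresentation S M) => (haveI := hh; inferInstance : Module.Finite S M)) (h1 i hlt)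
  · refine pc_of_homology ((acyc_restrictD_iff _ K _).2 (acyc_of_subsingleton hb))
      fun i hi => hfp _ ?_ _
    exact @Module.finitePresentation_of_finite _ _ _ _ _ _ ((finite_HF_restrictD_iff _ hα K i).2 (h i hi))

theorem rel_module_noetherian [IsNoetherianRing R] (M : Type u) [AddCommGroup M] [Module A M] :
    DerCA.IsRelPseudoCoherentModuleAll R A M ↔ Module.Finite A M := by
  obtain ⟨n, α, hα⟩ := PCH.exists_surj R A
  refine ⟨fun h => (rel_module_zero_negOne α hα M).1.1 (h 0), fun h k => (module_iff α hα k M).2 ?_⟩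
  haveI := (finite_restrict_iff (α : MvPolynomial (Fin n) R →+* A) hα (ModuleCat.of A M)).2 h
  exact pc_inD_of_fp_of_coherent (fun I hI => haveI := Module.Finite.iff_fg.2 hI
      Module.finitePresentation_of_finite _ I) _ (Module.finitePresentation_of_finite _ _) k

end Indep

end Groth.Agent.RelPC41
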