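import Groth.Agent.RelPC41.BaseChange
import Groth.Agent.DR39.Balance

/-! Relative pseudo-coherence and Tor-independent base change. -/

set_option autoImplicit false
set_option backward.isDefEq.respectTransparency.types false
set_option linter.style.haveILetI false

universe u

open CategoryTheory CategoryTheory.Limits CategoryTheory.Pretriangulated
open scoped TensorProduct

attribute [local instance] HasDerivedCategory.standard MvPolynomial.algebraMvPolynomial

namespace Groth.Agent.RelPC41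

open DR39 FlatMor67

section Acy

variable {R : Type u} [CommRing R] (H : DRing.Cx R)

/-- No higher cohomology of `H ⊗ M`. -/
def Acy (M : ModuleCat.{u} R) : Prop := ∀ i : ℤ, i < 0 → ExT H M i

variable {H}

theorem Acy.of_iso {M N : ModuleCat.{u} R} (h : Acy H M) (e : M ≅ N) : Acy H N := fun i hi =>
  (isZero_tensorCx_iff H N i).1 (((isZero_tensorCx_iff H M i).2 (h i hi)).of_iso
    ((HomologicalComplex.homologyFunctor _ _ i).mapIso ((NatIso.mapHomologicalComplex
      ((MonoidalCategory.tensoringRight (ModuleCat.{u} R)).mapIso e) (ComplexShape.up ℤ)).app H)).symm)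

theorem acy_of_subsingleton (M : ModuleCat.{u} R) [Subsingleton M] : Acy H M :=
  fun i _ x _ => by
    rw [Subsingleton.elim x 0]
    exact zero_mem _

variable (hH : ∀ i, Module.Flat R (H.X i))
  {M₁ M₂ M₃ : ModuleCat.{u} R} (a : M₁ ⟶ M₂) (b : M₂ ⟶ M₃)
  (ha : Function.Injective a.hom) (hab : Function.Exact a.hom b.hom)
  (hb : Function.Surjective b.hom)

include hH ha hab hb in
theorem acy_ext (h₁ : Acy H M₁) (h₃ : Acy H M₃) : Acy H M₂ := fun i hi => by
  obtain ⟨T, hT, e1, e2, e3⟩ := rpc_tensor_ses H hH a b ha hab hb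
  rw [← isZero_tensorCx_iff, ← isZero_HF_Q_iff, ← e2]
  refine (DerivedCategory.HomologySequence.exact₂ T hT i).isZero_of_both_zeros
    ((IsZero.eq_of_src ?_) _ _) ((IsZero.eq_of_tgt ?_) _ _)
  · exact ((isZero_HF_Q_iff _ i).2 ((isZero_tensorCx_iff _ _ i).2 (h₁ i hi))).of_iso ((HF R i).mapIso (eqToIso e1))
  · exact ((isZero_HF_Q_iff _ i).2 ((isZero_tensorCx_iff _ _ i).2 (h₃ i hi))).of_iso ((HF R i).mapIso (eqToIso e3))

include hH ha hab hb in
theorem acy_ker (h₂ : Acy H M₂) (h₃ : Acy H M₃) : Acy H M₁ := fun i hi => by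
  obtain ⟨T, hT, e1, e2, e3⟩ := rpc_tensor_ses H hH a b ha hab hb
  rw [← isZero_tensorCx_iff, ← isZero_HF_Q_iff, ← e1]
  refine (DerivedCategory.HomologySequence.exact₁ T hT (i - 1) i (by omega)).isZero_of_both_zeros
    ((IsZero.eq_of_src ?_) _ _) ((IsZero.eq_of_tgt ?_) _ _)
  · exact ((isZero_HF_Q_iff _ _).2 ((isZero_tensorCx_iff _ _ _).2 (h₃ (i - 1) (by omega)))).of_iso ((HF R _).mapIso (eqToIso e3))
  · exact ((isZero_HF_Q_iff _ i).2 ((isZero_tensorCx_iff _ _ i).2 (h₂ i hi))).of_iso ((HF R i).mapIso (eqToIso e2))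

variable {R' : Type u} [AddCommGroup R'] [Module R R'] (ε : (H.X 0 : Type u) →ₗ[R] R')
  (hε : Function.Surjective ε) (hker : Function.Exact (H.d (-1) 0).hom ε)

include hH ha hab hb hε hker in
theorem injective_lTensor_of_acy (h₃ : Acy H M₃) : Function.Injective (a.hom.lTensor R') := by
  rw [injective_iff_map_eq_zero]
  intro x hx
  obtain ⟨x', rfl⟩ := LinearMap.rTensor_surjective M₁ hε x
  have h1 : ε.rTensor M₂ (a.hom.lTensor (H.X 0) x') = 0 := by
    rw [← hx, ← LinearMap.comp_apply, ← LinearMap.comp_apply, LinearMap.rTensor_comp_lTensor,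
      LinearMap.lTensor_comp_rTensor]
  obtain ⟨w, hw⟩ := (rTensor_exact M₂ hker hε (a.hom.lTensor (H.X 0) x')).1 h1
  have hwc : (H.d (-1) (-1 + 1)).hom.rTensor M₃ (b.hom.lTensor (H.X (-1)) w) = 0 := by
    change (H.d (-1) 0).hom.rTensor M₃ (b.hom.lTensor (H.X (-1)) w) = 0
    rw [← LinearMap.comp_apply, LinearMap.rTensor_comp_lTensor, ← LinearMap.lTensor_comp_rTensor,
      LinearMap.comp_apply, hw]
    exact ((lTensor_exact (H.X 0) hab hb) _).2 ⟨x', rfl⟩
  obtain ⟨vc, hvc⟩ := h₃ (-1) (by omega) _ hwc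
  change (H.d (-1 - 1) (-1)).hom.rTensor M₃ vc = _ at hvc
  obtain ⟨v, rfl⟩ := LinearMap.lTensor_surjective (H.X (-1 - 1)) hb vc
  haveI := hH (-1)
  obtain ⟨u, hu⟩ := ((lTensor_exact (H.X (-1)) hab hb)
      (w - (H.d (-1 - 1) (-1)).hom.rTensor M₂ v)).1 (by
    rw [map_sub, ← hvc, ← LinearMap.comp_apply (b.hom.lTensor _), LinearMap.lTensor_comp_rTensor,
      ← LinearMap.rTensor_comp_lTensor, LinearMap.comp_apply, sub_self])
  have h2 : (H.d (-1) 0).hom.rTensor M₁ u = x' := by
    haveI := hH 0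
    apply Module.Flat.lTensor_preserves_injective_linearMap (M := H.X 0) a.hom ha
    rw [← LinearMap.comp_apply, LinearMap.lTensor_comp_rTensor, ← LinearMap.rTensor_comp_lTensor,
      LinearMap.comp_apply, hu, map_sub, hw, ← LinearMap.comp_apply, ← LinearMap.rTensor_comp,
      ← ModuleCat.hom_comp, H.d_comp_d, ModuleCat.hom_zero, LinearMap.rTensor_zero,
      LinearMap.zero_apply, sub_zero]
  exact ((rTensor_exact M₁ hker hε) x').2 ⟨u, h2⟩

end Acy

section Exact

variable {R : Type u} [CommRing R] {H : DRing.Cx R} (hH : ∀ i, Module.Flat R (H.X i))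
  {R' : Type u} [AddCommGroup R'] [Module R R'] (ε : (H.X 0 : Type u) →ₗ[R] R')
  (hε : Function.Surjective ε) (hker : Function.Exact (H.d (-1) 0).hom ε)
  (C : DRing.Cx R) {c m : ℤ} (hc : DRing.VanishesAbove C c) (hC : ∀ i, Acy H (C.X i))
  (hex : ∀ i, m ≤ i → IsZero (C.homology i))

/-- the differential onto the cycles -/
def toZd (i : ℤ) : (C.X i : Type u) →ₗ[R] Zd C (i + 1) :=
  LinearMap.codRestrict _ (C.d i (i + 1)).hom fun x => d_apply_d C i (i + 1) _ x

include hex in
theorem toZd_surjective (i : ℤ) (hi : m ≤ i + 1) : Function.Surjective (toZd C i) := by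
  rintro ⟨z, hz⟩
  obtain ⟨w, hw⟩ := (isZero_homology_iff C (i + 1)).1 (hex (i + 1) hi) z hz
  have key : ∀ j, j = i → ∀ w : C.X j, (C.d j (i + 1)).hom w = z →
      ∃ w', (C.d i (i + 1)).hom w' = z := by
    rintro j rfl w hw
    exact ⟨w, hw⟩
  obtain ⟨w', hw'⟩ := key _ (by omega) w hw
  exact ⟨w', Subtype.ext hw'⟩

theorem exact_subtype_toZd (i : ℤ) : Function.Exact (Zd C i).subtype (toZd C i) := fun x =>
  ⟨fun h => ⟨⟨x, congrArg Subtype.val h⟩, rfl⟩, by
    rintro ⟨y, rfl⟩
    exact Subtype.ext y.2⟩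

include hH hc hC hex in
theorem acy_Zd (i : ℤ) (hi : m ≤ i) : Acy H (ModuleCat.of R (Zd C i)) := by
  suffices key : ∀ (k : ℕ) (i : ℤ), m ≤ i → c < i + k → Acy H (ModuleCat.of R (Zd C i)) from
    key (c - i + 1).toNat i hi (by omega)
  intro k
  induction k with
  | zero =>
    intro i _ hi
    haveI := ModuleCat.subsingleton_of_isZero (hc i (by omega))
    haveI : Subsingleton (ModuleCat.of R (Zd C i)) := inferInstanceAs (Subsingleton (Zd C i))
    exact acy_of_subsingleton _
  | succ k ih =>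
    intro i hmi hi
    exact acy_ker hH (M₁ := ModuleCat.of R (Zd C i)) (M₂ := C.X i)
      (M₃ := ModuleCat.of R (Zd C (i + 1))) (ModuleCat.ofHom (Zd C i).subtype)
      (ModuleCat.ofHom (toZd C i)) Subtype.val_injective (exact_subtype_toZd C i)
      (toZd_surjective C hex i (by omega)) (hC i) (ih (i + 1) (by omega) (by push_cast at hi; omega))

include hH hε hker hc hC hex in
theorem exact_lTensor_of_acy (i : ℤ) (hi : m ≤ i) (z : R' ⊗[R] C.X i)
    (hz : (C.d i (i + 1)).hom.lTensor R' z = 0) :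
    ∃ w, (C.d (i - 1) i).hom.lTensor R' w = z := by
  have hinj : Function.Injective ((Zd C (i + 1)).subtype.lTensor R') :=
    injective_lTensor_of_acy hH (M₁ := ModuleCat.of R (Zd C (i + 1))) (M₂ := C.X (i + 1))
      (M₃ := ModuleCat.of R (Zd C (i + 1 + 1))) (ModuleCat.ofHom (Zd C (i + 1)).subtype)
      (ModuleCat.ofHom (toZd C (i + 1))) Subtype.val_injective (exact_subtype_toZd C _)
      (toZd_surjective C hex _ (by omega)) ε hε hker (acy_Zd hH C hc hC hex _ (by omega))
  have h0 : (toZd C i).lTensor R' z = 0 := hinj (by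
    rw [map_zero, ← LinearMap.comp_apply, ← LinearMap.lTensor_comp]
    exact hz)
  obtain ⟨w, rfl⟩ := ((lTensor_exact R' (exact_subtype_toZd C i) (toZd_surjective C hex i (by omega))) z).1 h0
  have hs : Function.Surjective (LinearMap.codRestrict (Zd C i) (C.d (i - 1) i).hom
      fun x => d_apply_d C (i - 1) i (i + 1) x) := by
    rintro ⟨y, hy⟩
    obtain ⟨x, hx⟩ := (isZero_homology_iff C i).1 (hex i hi) y hy
    exact ⟨x, Subtype.ext hx⟩
  obtain ⟨v, rfl⟩ := LinearMap.lTensor_surjective R' hs w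
  refine ⟨v, ?_⟩
  rw [← LinearMap.comp_apply, ← LinearMap.lTensor_comp]
  rfl

end Exact

section Res

/-- A free resolution with its augmentation. -/
theorem exists_res_aug {R : Type u} [CommRing R] (N : Type u) [AddCommGroup N] [Module R N] :
    ∃ (H : DRing.Cx R) (_ : DRing.VanishesAbove H 0) (_ : ∀ i, Module.Free R (H.X i))
      (_ : Nonempty ((QA R).obj H ≅ Dual.inD R N)) (ε : (H.X 0 : Type u) →ₗ[R] N),
      Function.Surjective ε ∧ Function.Exact (H.d (-1) 0).hom ε := by
  obtain ⟨H, hb, hf, ⟨e⟩⟩ := exists_free_res (A := R) N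
  have h1 : ∀ x : H.X 0, x ∈ Zd H 0 := fun x => by
    haveI := ModuleCat.subsingleton_of_isZero (hb (0 + 1) (by omega))
    exact LinearMap.mem_ker.2 (Subsingleton.elim _ _)
  let e₀ : H.homology 0 ≅ ModuleCat.of R N := (HQIso H 0).symm ≪≫ (HF R 0).mapIso e ≪≫
    (DerivedCategory.singleFunctorCompHomologyFunctorIso (ModuleCat.{u} R) 0).app (ModuleCat.of R N)
  let ε : (H.X 0 : Type u) →ₗ[R] N :=
    e₀.hom.hom ∘ₗ hcls H 0 ∘ₗ LinearMap.codRestrict (Zd H 0) LinearMap.id h1
  refine ⟨H, hb, hf, ⟨e⟩, ε, fun y => ?_, fun x => ?_⟩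
  · obtain ⟨z, hz⟩ := hcls_surjective H 0 (e₀.inv.hom y)
    refine ⟨z.1, ?_⟩
    show e₀.hom.hom (hcls H 0 z) = y
    rw [hz]
    exact congrArg (fun g : ModuleCat.of R N ⟶ ModuleCat.of R N => g.hom y) e₀.inv_hom_id
  · show e₀.hom.hom (hcls H 0 ⟨x, h1 x⟩) = 0 ↔ _
    refine (e₀.toLinearEquiv.map_eq_zero_iff).trans ?_
    rw [hcls_eq_zero_iff]
    rfl

theorem acy_of_flat {R : Type u} [CommRing R] {H : DRing.Cx R} {S : Type u} [CommRing S] [Algebra R S]
    (hS : ∀ i : ℤ, i < 0 → ExT H (ModuleCat.of R S) i) (N : ModuleCat.{u} R) [Module S N]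
    [IsScalarTower R S N] [Module.Flat S N] : Acy H N :=
  fun i hi => exT_of_flat H i N (hS i hi)

theorem acy_self_of_res {R : Type u} [CommRing R] {H : DRing.Cx R} (N : Type u) [AddCommGroup N]
    [Module R N] (e : (QA R).obj H ≅ Dual.inD R N) (i : ℤ) (hi : i < 0) :
    ExT H (ModuleCat.of R R) i := by
  rw [exT_self_iff, ← isZero_HF_Q_iff]
  exact (DerivedCategory.isZero_of_isGE (Dual.inD R N) 0 i hi).of_iso ((HF R i).mapIso e)

theorem exT_of_tor {R : Type u} [CommRing R] {H : DRing.Cx R} (hHb : DRing.VanishesAbove H 0)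
    (hHf : ∀ i, Module.Free R (H.X i)) (A N : Type u) [AddCommGroup A] [Module R A] [AddCommGroup N]
    [Module R N] (e : (QA R).obj H ≅ Dual.inD R N)
    (htor : ∀ p : ℕ, 0 < p → Subsingleton (DRing.Tor R p A N)) (i : ℤ) (hi : i < 0) :
    ExT H (ModuleCat.of R A) i := by
  obtain ⟨p, rfl⟩ : ∃ p : ℕ, i = -(p : ℤ) := ⟨(-i).toNat, by omega⟩
  obtain ⟨F, hFb, hFp, ⟨eF⟩, hiff⟩ := isZero_Tor_iff (ModuleCat.of R A) (ModuleCat.of R N) p
  obtain ⟨f⟩ := tensor_iso (isKFlat_of_flat 0 hFb fun j => flat_of_PR (hFp j))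
    (isKFlat_of_flat 0 hHb fun j => flat_of_FR (hHf j)) (eF ≪≫ e.symm) (ModuleCat.of R A) (-(p : ℤ))
  exact (isZero_tensorCx_iff _ _ _).1
    ((hiff.1 (ModuleCat.isZero_iff_subsingleton.2 (htor p (by omega)))).of_iso f.symm)

theorem acy_restrict {R : Type u} [CommRing R] {H : DRing.Cx R} {S : Type u} [CommRing S] [Algebra R S]
    (f : R →+* S) (hf : f = algebraMap R S) (hS : ∀ i : ℤ, i < 0 → ExT H (ModuleCat.of R S) i)
    (N : ModuleCat.{u} S) (hN : Module.Flat S N) : Acy H ((ModuleCat.restrictScalars f).obj N) := by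
  subst hf
  letI : Module R N := Module.compHom N (algebraMap R S)
  haveI : IsScalarTower R S N := ⟨fun r p x => by
    show (r • p) • x = algebraMap R S r • p • x
    rw [Algebra.smul_def, mul_smul]⟩
  exact fun i hi => exT_of_flat H i N (hS i hi)

theorem acy_restrict_of_flat_algebra {R : Type u} [CommRing R] {H : DRing.Cx R} {S : Type u}
    [CommRing S] [Algebra R S] [Module.Flat R S]
    (hR : ∀ i : ℤ, i < 0 → ExT H (ModuleCat.of R R) i) (N : ModuleCat.{u} S) (hN : Module.Flat S N) :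
    Acy H ((ModuleCat.restrictScalars (algebraMap R S)).obj N) :=
  acy_restrict (algebraMap R S) rfl (fun i hi => exT_of_flat H i S (hR i hi)) N hN

theorem acy_restrict_cone {R : Type u} [CommRing R] {H : DRing.Cx R} (hH : ∀ i, Module.Flat R (H.X i))
    {P : Type u} [CommRing P] [Algebra R P] {G M : DRing.Cx P} (f : G ⟶ M) {i : ℤ}
    (hG : Acy H ((ModuleCat.restrictScalars (algebraMap R P)).obj (G.X (i + 1))))
    (hM : Acy H ((ModuleCat.restrictScalars (algebraMap R P)).obj (M.X i))) :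
    Acy H ((ModuleCat.restrictScalars (algebraMap R P)).obj ((CochainComplex.mappingCone f).X i)) := by
  let rs := ModuleCat.restrictScalars.{u} (algebraMap R P)
  let a : G.X (i + 1) ⟶ ModuleCat.of P (G.X (i + 1) × M.X i) :=
    ModuleCat.ofHom (LinearMap.inl P (G.X (i + 1)) (M.X i))
  let b : ModuleCat.of P (G.X (i + 1) × M.X i) ⟶ M.X i :=
    ModuleCat.ofHom (LinearMap.snd P (G.X (i + 1)) (M.X i))
  have hp : Acy H (rs.obj (ModuleCat.of P (G.X (i + 1) × M.X i))) :=
    acy_ext hH (rs.map a) (rs.map b) (fun x y h => congrArg Prod.fst h)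
      (fun x => (Function.Exact.inl_snd (R := P) (M := G.X (i + 1)) (N := M.X i)) x)
      (fun y => ⟨(0, y), rfl⟩) hG hM
  exact hp.of_iso (rs.mapIso ((ModuleCat.biprodIsoProd _ _).symm ≪≫
    (HomologicalComplex.homotopyCofiber.XIsoBiprod f i (i + 1) rfl).symm))

end Res

section Main

/-- Tor-independent base change keeps exactness in high degrees. -/
theorem isZero_ext_of_acy {R R' P P' : Type u} [CommRing R] [CommRing R'] [CommRing P] [CommRing P']
    [Algebra R R'] [Algebra R P] [aPP' : Algebra P P'] [Algebra R' P'] [Algebra R P']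
    [IsScalarTower R R' P'] [IsScalarTower R P P'] [Algebra.IsPushout R R' P P']
    {H : DRing.Cx R} (hH : ∀ i, Module.Flat R (H.X i)) (ε : (H.X 0 : Type u) →ₗ[R] R')
    (hε : Function.Surjective ε) (hker : Function.Exact (H.d (-1) 0).hom ε)
    (C : DRing.Cx P) {c m : ℤ} (hc : DRing.VanishesAbove C c)
    (hC : ∀ i, Acy H ((ModuleCat.restrictScalars (algebraMap R P)).obj (C.X i)))
    (hex : ∀ i, m ≤ i → IsZero (C.homology i)) (i : ℤ) (hi : m ≤ i) :
    IsZero ((((extA P P').mapHomologicalComplex (ComplexShape.up ℤ)).obj C).homology i) := by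
  obtain ⟨g, rfl⟩ : ∃ g : P →+* P', aPP' = g.toAlgebra :=
    ⟨algebraMap P P', Algebra.algebra_ext _ _ fun _ => rfl⟩
  letI := g.toAlgebra
  let C' := (DRing.restrictCx (algebraMap R P)).obj C
  have hex' : ∀ j, m ≤ j → IsZero (C'.homology j) := fun j hj =>
    (isZero_HF_Q_iff C' j).1 (((isZero_HF_restrictD_iff (algebraMap R P) _ j).2
      ((isZero_HF_Q_iff C j).2 (hex j hj))).of_iso ((HF R j).mapIso (restrictDIso _ C)).symm)
  have key := exact_lTensor_of_acy hH ε hε hker C' (fun j hj => Functor.map_isZero (ModuleCat.restrictScalars (algebraMap R P)) (hc j hj))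
    hC hex' i hi
  letI : ∀ j, Module R (C.X j) := fun j => Module.compHom _ (algebraMap R P)
  haveI : ∀ j, IsScalarTower R P (C.X j) := fun j => ⟨fun r p x => by
    show (r • p) • x = algebraMap R P r • p • x
    rw [Algebra.smul_def, mul_smul]⟩
  let e := fun j => Algebra.IsPushout.cancelBaseChange R R' P P' (C.X j)
  have nat : ∀ j k (y : R' ⊗[R] C.X j),
      (e k).symm (((C.d j k).hom.restrictScalars R).lTensor R' y) =
        (C.d j k).hom.baseChange P' ((e j).symm y) := fun j k y => by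
    induction y using TensorProduct.induction_on with
    | zero => simp
    | tmul t x => simp [e]
    | add x y hx hy => simp only [map_add, hx, hy]
  rw [isZero_homology_iff]
  intro z hz
  change (C.d i (i + 1)).hom.baseChange P' z = 0 at hz
  obtain ⟨y, rfl⟩ := (e i).symm.surjective z
  obtain ⟨w, hw⟩ := key y ((e (i + 1)).symm.injective
    (((nat i (i + 1) y).trans hz).trans (map_zero _).symm))
  refine ⟨(e (i - 1)).symm w, ?_⟩
  exact ((nat (i - 1) i w).symm).trans (congrArg (e i).symm hw)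

/-- Tor-independent base change of relative pseudo-coherence. -/
theorem rel_torIndep {R A R' A' : Type u} [CommRing R] [CommRing A] [CommRing R'] [CommRing A']
    [Algebra R A] [Algebra.FiniteType R A] [Algebra R R'] [Algebra R' A'] [Algebra A A'] [Algebra R A']
    [IsScalarTower R R' A'] [IsScalarTower R A A'] [Algebra.IsPushout R R' A A']
    (htor : ∀ p : ℕ, 0 < p → Subsingleton (DRing.Tor R p A R'))
    [DRing.HasLBaseChange (algebraMap A A')] (K : Dual.D A) (m : ℤ)
    (h : DerCA.IsRelPseudoCoherent R A m K) :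
    DerCA.IsRelPseudoCoherent R' A' m ((DRing.LBaseChange (algebraMap A A')).obj K) := by
  obtain ⟨H, hHb, hHf, ⟨eH⟩, ε, hε, hker⟩ := exists_res_aug (R := R) R'
  have hH : ∀ i, Module.Flat R (H.X i) := fun i => flat_of_FR (hHf i)
  obtain ⟨E, b, hb, hflat, hk, ⟨eK⟩⟩ := exists_free_rep K h
  obtain ⟨n, φ, hφ⟩ := PCH.exists_surj R A
  -- the presentation of the base change
  letI := φ.toRingHom.toAlgebra
  haveI : IsScalarTower R (MvPolynomial (Fin n) R) A := IsScalarTower.of_algHom φ
  let φ' : MvPolynomial (Fin n) R' →ₐ[R'] A' :=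
    MvPolynomial.aeval fun i => algebraMap A A' (φ (MvPolynomial.X i))
  letI := φ'.toRingHom.toAlgebra
  haveI : IsScalarTower R' (MvPolynomial (Fin n) R') A' := IsScalarTower.of_algHom φ'
  letI : Algebra (MvPolynomial (Fin n) R) A' := ((algebraMap A A').comp φ.toRingHom).toAlgebra
  haveI : IsScalarTower (MvPolynomial (Fin n) R) A A' := IsScalarTower.of_algebraMap_eq fun x => rfl
  haveI : IsScalarTower R (MvPolynomial (Fin n) R) A' := IsScalarTower.of_algebraMap_eq fun a => by
    show algebraMap R A' a = algebraMap A A' (φ (algebraMap R _ a))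
    rw [φ.commutes, ← IsScalarTower.algebraMap_apply]
  haveI : IsScalarTower (MvPolynomial (Fin n) R) (MvPolynomial (Fin n) R') A' := by
    refine IsScalarTower.of_algebraMap_eq' (MvPolynomial.ringHom_ext (fun a => ?_) (fun i => ?_))
    · show algebraMap A A' (φ (MvPolynomial.C a)) = φ' (algebraMap _ (MvPolynomial (Fin n) R') (MvPolynomial.C a))
      rw [MvPolynomial.algebraMap_def, MvPolynomial.map_C, ← MvPolynomial.algebraMap_eq,
        ← MvPolynomial.algebraMap_eq, φ.commutes, φ'.commutes, ← IsScalarTower.algebraMap_apply,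
        ← IsScalarTower.algebraMap_apply]
    · show algebraMap A A' (φ (MvPolynomial.X i)) = φ' (algebraMap _ (MvPolynomial (Fin n) R') (MvPolynomial.X i))
      rw [MvPolynomial.algebraMap_def, MvPolynomial.map_X]
      simp [φ']
  haveI : IsScalarTower R (MvPolynomial (Fin n) R') A' := IsScalarTower.of_algebraMap_eq fun a => by
    rw [IsScalarTower.algebraMap_apply R R' (MvPolynomial (Fin n) R'),
      ← IsScalarTower.algebraMap_apply R' (MvPolynomial (Fin n) R') A', ← IsScalarTower.algebraMap_apply R R' A']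
  haveI hpo : Algebra.IsPushout (MvPolynomial (Fin n) R) (MvPolynomial (Fin n) R') A A' := by
    haveI : Algebra.IsPushout R A R' A' := .symm inferInstance
    exact ((Algebra.IsPushout.comp_iff R (MvPolynomial (Fin n) R) R' (MvPolynomial (Fin n) R')
      (T := A) (T' := A')).1 inferInstance).symm
  haveI : Algebra.IsPushout R R' (MvPolynomial (Fin n) R) (MvPolynomial (Fin n) R') :=
    Algebra.IsPushout.symm (inferInstance : Algebra.IsPushout R (MvPolynomial (Fin n) R) R' (MvPolynomial (Fin n) R'))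
  have hsurj : Function.Surjective φ' := by
    intro y
    let q := Algebra.IsPushout.equiv (MvPolynomial (Fin n) R) (MvPolynomial (Fin n) R') A A'
    obtain ⟨z, rfl⟩ := q.surjective y
    induction z using TensorProduct.induction_on with
    | zero => exact ⟨0, by simp⟩
    | add x y hx hy =>
      obtain ⟨u, hu⟩ := hx
      obtain ⟨v, hv⟩ := hy
      exact ⟨u + v, by rw [map_add, hu, hv, map_add]⟩
    | tmul p a =>
      obtain ⟨x, rfl⟩ := hφ a
      refine ⟨p * algebraMap _ (MvPolynomial (Fin n) R') x, ?_⟩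
      rw [map_mul, Algebra.IsPushout.equiv_tmul]
      congr 1
      exact (IsScalarTower.algebraMap_apply (MvPolynomial (Fin n) R) (MvPolynomial (Fin n) R') A' x).symm
  -- the approximation
  refine rel_of_iso ((LBaseChangeIso (algebraMap A A') E hk).symm ≪≫
    (DRing.LBaseChange (algebraMap A A')).mapIso eK) ((via_iff φ' hsurj m _).2 ?_)
  have hM : PC m ((QA _).obj ((DRing.restrictCx (φ : MvPolynomial (Fin n) R →+* A)).obj E)) :=
    PC.of_iso ((via_iff φ hφ m _).1 (rel_of_iso eK.symm h)) (restrictDIso _ E)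
  let M := (DRing.restrictCx (φ : MvPolynomial (Fin n) R →+* A)).obj E
  obtain ⟨G, a, c, α, hGv, hGff, hα1, hα2⟩ := hM
  have hGv' := fun i hi => hGv i (Or.inr hi)
  haveI := isKProjective_of_bddAbove G c hGv' fun i => proj_of_FF (hGff i)
  obtain ⟨f, hf⟩ := Q_map_surjective G M α
  have hfA : Approx m ((QA _).map f) := by
    rw [show (QA _).map f = α from hf]; exact ⟨hα1, hα2⟩
  have hCx : Acyc m ((QA _).obj (CochainComplex.mappingCone f)) :=
    (approx_iff_acyc _ (DerivedCategory.mappingCone_triangle_distinguished f) m).1 hfA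
  let F := extA (MvPolynomial (Fin n) R) (MvPolynomial (Fin n) R')
  let fB := (F.mapHomologicalComplex (ComplexShape.up ℤ)).map f
  have hG0 : ∀ i, Acy H ((ModuleCat.restrictScalars (algebraMap R (MvPolynomial (Fin n) R))).obj (G.X i)) :=
    fun i => acy_restrict_of_flat_algebra (fun j hj => acy_self_of_res R' eH j hj) (G.X i)
      (haveI := (hGff i).2; Module.Flat.of_free)
  have hE0 : ∀ i, Acy H ((ModuleCat.restrictScalars (algebraMap R (MvPolynomial (Fin n) R))).obj (M.X i)) :=
    fun i => (acy_restrict ((φ : MvPolynomial (Fin n) R →+* A).comp (algebraMap R _)) φ.comp_algebraMap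
      (fun j hj => exT_of_tor hHb hHf A R' eH htor j hj) (E.X i) (hflat i)).of_iso
      ((ModuleCat.restrictScalarsComp.{u, u, u, u} (algebraMap R (MvPolynomial (Fin n) R))
        (φ : MvPolynomial (Fin n) R →+* A)).app (E.X i))
  have hcone : ∀ i, Acy H ((ModuleCat.restrictScalars (algebraMap R (MvPolynomial (Fin n) R))).obj
      ((CochainComplex.mappingCone f).X i)) := fun i => acy_restrict_cone hH f (hG0 _) (hE0 _)
  have hvan : DRing.VanishesAbove (CochainComplex.mappingCone f) (max b c) := fun i hi => by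
    refine IsZero.of_iso ?_ (HomologicalComplex.homotopyCofiber.XIsoBiprod f i (i + 1) rfl)
    exact (biprod_isZero_iff _ _).2 ⟨hGv' _ (by omega),
      (ModuleCat.restrictScalars _).map_isZero (hb _ (by omega))⟩
  have hCB : Acyc m ((QA _).obj (CochainComplex.mappingCone fB)) := fun i hi => by
    refine ((isZero_HF_Q_iff _ i).2 (isZero_ext_of_acy (P' := MvPolynomial (Fin n) R') hH ε hε hker
      (CochainComplex.mappingCone f) hvan hcone (fun j hj => (isZero_HF_Q_iff _ j).1 (hCx j hj))
      i hi)).of_iso ((HF _ i).mapIso ((QA _).mapIso ?_))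
    exact (CochainComplex.mappingCone.mapHomologicalComplexIso f F).symm
  have hfB : Approx m ((QA _).map fB) :=
    (approx_iff_acyc _ (DerivedCategory.mappingCone_triangle_distinguished fB) m).2 hCB
  obtain ⟨ν⟩ := pushoutNatIso (MvPolynomial (Fin n) R) (MvPolynomial (Fin n) R') A A'
  refine PC.of_iso (X := (QA _).obj ((F.mapHomologicalComplex (ComplexShape.up ℤ)).obj M))
    ((pc_iff m _).2 ⟨_, (QA _).map fB,
      ⟨a, c, _, fun i hi => F.map_isZero ((vanishesOutside_iff G a c).1 hGv i hi), fun i => ?_,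
        ⟨Iso.refl _⟩⟩, hfB⟩) ?_
  · haveI := (hGff i).1
    haveI := (hGff i).2
    obtain ⟨e⟩ := ext_tensorIso (MvPolynomial (Fin n) R') (G.X i)
    exact isModClass_FF.of_iso e.symm
      ⟨(inferInstance : Module.Finite _ (MvPolynomial (Fin n) R' ⊗[MvPolynomial (Fin n) R] G.X i)),
        (inferInstance : Module.Free _ (MvPolynomial (Fin n) R' ⊗[MvPolynomial (Fin n) R] G.X i))⟩
  · exact (QA _).mapIso ((NatIso.mapHomologicalComplex ν (ComplexShape.up ℤ)).app E).symm ≪≫
      (restrictDIso (φ' : MvPolynomial (Fin n) R' →+* A')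
        (((extA A A').mapHomologicalComplex (ComplexShape.up ℤ)).obj E)).symm

end Main

end Groth.Agent.RelPC41
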