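import Groth.Agent.RelPC41.Comp
import Groth.Agent.DR39.TensorSymm
import Mathlib.RingTheory.Localization.BaseChange

/-! Relative pseudo-coherence and base change. -/

set_option autoImplicit false
set_option backward.isDefEq.respectTransparency.types false
set_option linter.style.haveILetI false

universe u

open CategoryTheory CategoryTheory.Limits CategoryTheory.Pretriangulated
open scoped TensorProduct

attribute [local instance] HasDerivedCategory.standard MvPolynomial.algebraMvPolynomial

namespace Groth.Agent.RelPC41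

open DR39 FlatMor67

/-- Restriction of scalars commutes with extension of scalars in a pushout square. -/
theorem pushoutNatIso (P T A A' : Type u) [CommRing P] [CommRing T] [CommRing A] [CommRing A']
    [aPT : Algebra P T] [aPA : Algebra P A] [aTA' : Algebra T A'] [aAA' : Algebra A A'] [Algebra P A']
    [IsScalarTower P T A'] [IsScalarTower P A A'] [Algebra.IsPushout P T A A'] :
    Nonempty (extA A A' ⋙ ModuleCat.restrictScalars.{u} (algebraMap T A') ≅
      ModuleCat.restrictScalars.{u} (algebraMap P A) ⋙ extA P T) := by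
  obtain ⟨g, rfl⟩ : ∃ g : P →+* T, aPT = g.toAlgebra :=
    ⟨algebraMap P T, Algebra.algebra_ext _ _ fun _ => rfl⟩
  obtain ⟨g', rfl⟩ : ∃ g' : A →+* A', aAA' = g'.toAlgebra :=
    ⟨algebraMap A A', Algebra.algebra_ext _ _ fun _ => rfl⟩
  obtain ⟨f, rfl⟩ : ∃ f : P →+* A, aPA = f.toAlgebra :=
    ⟨algebraMap P A, Algebra.algebra_ext _ _ fun _ => rfl⟩
  obtain ⟨f', rfl⟩ : ∃ f' : T →+* A', aTA' = f'.toAlgebra :=
    ⟨algebraMap T A', Algebra.algebra_ext _ _ fun _ => rfl⟩
  letI := g.toAlgebra
  letI := g'.toAlgebra
  letI := f.toAlgebra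
  letI := f'.toAlgebra
  let e : ∀ M : ModuleCat.{u} A,
      (extA A A' ⋙ ModuleCat.restrictScalars.{u} (algebraMap T A')).obj M ≅
        (ModuleCat.restrictScalars.{u} (algebraMap P A) ⋙ extA P T).obj M := fun M =>
    letI : Module P M := Module.compHom M f
    haveI : IsScalarTower P A M := ⟨fun p a m => by
      show (f p * a) • m = f p • a • m
      rw [mul_smul]⟩
    LinearEquiv.toModuleIso (({ Algebra.IsPushout.cancelBaseChange P T A A' M with
      map_smul' := fun t x => by
        letI : Module T (A' ⊗[A] M) := Module.compHom _ f'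
        refine Eq.trans ?_ ((Algebra.IsPushout.cancelBaseChange P T A A' M).map_smul t x)
        congr 1 } :
      ((extA A A' ⋙ ModuleCat.restrictScalars.{u} (algebraMap T A')).obj M : Type u) ≃ₗ[T]
        ((ModuleCat.restrictScalars.{u} (algebraMap P A) ⋙ extA P T).obj M : Type u)))
  refine ⟨(NatIso.ofComponents (fun M => (e M).symm) ?_).symm⟩
  intro M N φ
  letI : Module P M := Module.compHom M f
  haveI : IsScalarTower P A M := ⟨fun p a m => by
    show (f p * a) • m = f p • a • m
    rw [mul_smul]⟩
  letI : Module P N := Module.compHom N f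
  haveI : IsScalarTower P A N := ⟨fun p a m => by
    show (f p * a) • m = f p • a • m
    rw [mul_smul]⟩
  refine ModuleCat.hom_ext (LinearMap.ext fun z => ?_)
  show (Algebra.IsPushout.cancelBaseChange P T A A' N).symm ((φ.hom.restrictScalars P).baseChange T z) =
    φ.hom.baseChange A' ((Algebra.IsPushout.cancelBaseChange P T A A' M).symm z)
  change T ⊗[P] M at z
  induction z using TensorProduct.induction_on with
  | zero => simp
  | tmul t m => simp
  | add x y hx hy => simp only [map_add, hx, hy]

/-- Base change of relative pseudo-coherence along a flat pushout square. -/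
theorem rpc_ext {P T A A' : Type u} [CommRing P] [CommRing T] [CommRing A] [CommRing A']
    [Algebra P T] [Algebra P A] [Algebra T A'] [Algebra A A'] [Algebra P A']
    [IsScalarTower P T A'] [IsScalarTower P A A'] [Algebra.IsPushout P T A A'] [Module.Flat P T]
    (m : ℤ) (E : DRing.Cx A) (h : RPC (algebraMap P A) m ((QA A).obj E)) :
    RPC (algebraMap T A') m
      ((QA A').obj (((extA A A').mapHomologicalComplex (ComplexShape.up ℤ)).obj E)) := by
  obtain ⟨ν⟩ := pushoutNatIso P T A A'
  have e := (NatIso.mapHomologicalComplex ν (ComplexShape.up ℤ)).app E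
  exact (pc_map (extA P T) (pc_extendScalars_FF _) (PC.of_iso h (restrictDIso _ E))).of_iso
    (DFQ (extA P T) _ ≪≫ (QA T).mapIso e.symm ≪≫
      (restrictDIso (algebraMap T A') (((extA A A').mapHomologicalComplex (ComplexShape.up ℤ)).obj E)).symm)

theorem rpc_congr {P A : Type u} [CommRing P] [CommRing A] (f : P →+* A) {m : ℤ} {K L : Dual.D A}
    (e : K ≅ L) (h : RPC f m K) : RPC f m L :=
  PC.of_iso h ((DRing.restrictD f).mapIso e)

section Tensor

variable {T A' : Type u} [CommRing T] [CommRing A'] (f : T →+* A') (E : DRing.Cx A')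
  (hflat : ∀ i, Module.Flat A' (E.X i))

/-- Tensoring the complex with a map of modules. -/
noncomputable def tmap {M N : ModuleCat.{u} A'} (g : M ⟶ N) :
    DRing.tensorCx E M ⟶ DRing.tensorCx E N :=
  (NatTrans.mapHomologicalComplex ((MonoidalCategory.tensoringRight (ModuleCat.{u} A')).map g)
    (ComplexShape.up ℤ)).app E

include hflat in
theorem rpc_tensor_ses {M₁ M₂ M₃ : ModuleCat.{u} A'} (a : M₁ ⟶ M₂) (b : M₂ ⟶ M₃)
    (ha : Function.Injective a.hom) (hab : Function.Exact a.hom b.hom)
    (hb : Function.Surjective b.hom) :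
    ∃ T : Triangle (Dual.D A'), T ∈ distinguishedTriangles ∧
      T.obj₁ = (QA A').obj (DRing.tensorCx E M₁) ∧ T.obj₂ = (QA A').obj (DRing.tensorCx E M₂) ∧
      T.obj₃ = (QA A').obj (DRing.tensorCx E M₃) := by
  let S : ShortComplex (DRing.Cx A') := ShortComplex.mk (tmap E a) (tmap E b) (by
    refine HomologicalComplex.hom_ext _ _ fun i => ModuleCat.hom_ext (TensorProduct.ext' fun x y => ?_)
    show x ⊗ₜ[A'] b.hom (a.hom y) = 0
    rw [hab.apply_apply_eq_zero, TensorProduct.tmul_zero])
  have hS : S.ShortExact := by
    refine HomologicalComplex.shortExact_of_degreewise_shortExact _ fun i => ?_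
    haveI := hflat i
    exact { exact := (ShortComplex.moduleCat_exact_iff _).2 fun z hz =>
              ((Module.Flat.lTensor_exact (E.X i) hab) z).1 hz
            mono_f := (ModuleCat.mono_iff_injective _).2
              (Module.Flat.lTensor_preserves_injective_linearMap a.hom ha)
            epi_g := (ModuleCat.epi_iff_surjective _).2 (LinearMap.lTensor_surjective (E.X i) hb) }
  exact ⟨_, DerivedCategory.triangleOfSES_distinguished hS, rfl, rfl, rfl⟩

theorem rpc_tensor_self {m : ℤ} (h : RPC f m ((QA A').obj E)) :
    RPC f m ((QA A').obj (DRing.tensorCx E (ModuleCat.of A' A'))) :=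
  rpc_congr f ((QA A').mapIso ((NatIso.mapHomologicalComplex
    (MonoidalCategory.rightUnitorNatIso (ModuleCat.{u} A')) (ComplexShape.up ℤ)).app E).symm) (by
      exact rpc_congr f ((QA A').mapIso ((Functor.mapHomologicalComplexIdIso (ModuleCat.{u} A')
        (ComplexShape.up ℤ)).app E).symm) h)

theorem rpc_tensor_zero (M : ModuleCat.{u} A') (hM : Subsingleton M) (m : ℤ) :
    RPC f m ((QA A').obj (DRing.tensorCx E M)) := by
  refine pc_of_acyc ((acyc_restrictD_iff f _ m).2 fun i _ => (isZero_HF_Q_iff _ i).2 ?_)
  refine (HomologicalComplex.ExactAt.isZero_homology (ShortComplex.exact_of_isZero_X₂ _ ?_))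
  haveI := hM
  exact ModuleCat.isZero_of_subsingleton (ModuleCat.of A' (E.X i ⊗[A'] M))

include hflat in
theorem rpc_tensor_pi {m : ℤ} (h : RPC f m ((QA A').obj E)) (r : ℕ) :
    RPC f m ((QA A').obj (DRing.tensorCx E (ModuleCat.of A' (Fin r → A')))) := by
  induction r with
  | zero => exact rpc_tensor_zero f E _ (inferInstanceAs (Subsingleton (Fin 0 → A'))) m
  | succ r ih =>
    obtain ⟨T, hT, e1, e2, e3⟩ := rpc_tensor_ses E hflat
      (ModuleCat.ofHom (LinearMap.inl A' A' (Fin r → A'))) (ModuleCat.ofHom (LinearMap.snd A' A' (Fin r → A')))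
      LinearMap.inl_injective Function.Exact.inl_snd LinearMap.snd_surjective
    have h2 : RPC f m T.obj₂ := PC.obj₂ ((DRing.restrictD f).map_distinguished _ hT)
      (by show RPC f m T.obj₁; rw [e1]; exact rpc_tensor_self f E h)
      (by show RPC f m T.obj₃; rw [e3]; exact ih)
    rw [e2] at h2
    let L := (Fin.consLinearEquiv A' (fun _ : Fin (r + 1) => A')).toModuleIso
    exact rpc_congr f ((QA A').mapIso ((NatIso.mapHomologicalComplex
      ((MonoidalCategory.tensoringRight (ModuleCat.{u} A')).mapIso L) (ComplexShape.up ℤ)).app E)) h2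

include hflat in
/-- Tensor product with a pseudo-coherent module. -/
theorem rpc_tensor {m : ℤ} (h : RPC f m ((QA A').obj E)) {b : ℤ} (hb : DRing.VanishesAbove E b)
    (N : Type u) [AddCommGroup N] [Module A' N] (hN : ∀ n, PC n (Dual.inD A' N)) :
    RPC f m ((QA A').obj (DRing.tensorCx E (ModuleCat.of A' N))) := by
  suffices key : ∀ (k : ℕ) (n : ℤ), m ≤ n → b + 1 ≤ n + k → ∀ (N : Type u) [AddCommGroup N] [Module A' N],
      (∀ l, PC l (Dual.inD A' N)) → RPC f n ((QA A').obj (DRing.tensorCx E (ModuleCat.of A' N))) from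
    key (b + 1 - m).toNat m le_rfl (by omega) N hN
  intro k
  induction k with
  | zero =>
    intro n _ hn N _ _ _
    refine pc_of_acyc ((acyc_restrictD_iff f _ n).2 fun i hi => (isZero_HF_Q_iff _ i).2 ?_)
    exact HomologicalComplex.ExactAt.isZero_homology (ShortComplex.exact_of_isZero_X₂ _
      (Functor.map_isZero (MonoidalCategory.tensorRight (ModuleCat.of A' N)) (hb i (by omega))))
  | succ k ih =>
    intro n hmn hn N _ _ hN
    haveI := (pcModule_zero_iff N).1 (hN 0)
    obtain ⟨r, g, hg⟩ := Module.Finite.exists_fin' A' N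
    obtain ⟨T₀, hT₀, d1, d2, d3⟩ := exists_triangle_of_surjective g hg
    have hZ : ∀ l, PC l (Dual.inD A' (LinearMap.ker g)) := fun l => by
      have := PC.obj₁ hT₀ (m := l - 1) (by rw [d2]; exact pc_of_bff (bff_inD_of_free _))
        (by rw [d3]; exact hN _)
      rw [d1, sub_add_cancel] at this
      exact this
    obtain ⟨T, hT, e1, e2, e3⟩ := rpc_tensor_ses E hflat (M₁ := ModuleCat.of A' (LinearMap.ker g))
      (M₂ := ModuleCat.of A' (Fin r → A')) (M₃ := ModuleCat.of A' N)
      (ModuleCat.ofHom (LinearMap.ker g).subtype) (ModuleCat.ofHom g)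
      Subtype.val_injective (LinearMap.exact_subtype_ker_map g) hg
    have h3 : RPC f n T.obj₃ := PC.obj₃ ((DRing.restrictD f).map_distinguished _ hT)
      (by show RPC f (n + 1) T.obj₁; rw [e1]; exact ih (n + 1) (by omega) (by push_cast at hn; omega) _ hZ)
      (by show RPC f n T.obj₂; rw [e2]; exact PC.mono (rpc_tensor_pi f E hflat h r) hmn)
    rwa [e3] at h3

include hflat in
/-- Base change to a pseudo-coherent algebra. -/
theorem rpc_ext_pc {B : Type u} [CommRing B] (ψ : A' →+* B) {m : ℤ} (h : RPC f m ((QA A').obj E))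
    {b : ℤ} (hb : DRing.VanishesAbove E b)
    (hB : ∀ n, PC n (Dual.inD A' ((ModuleCat.restrictScalars ψ).obj (ModuleCat.of B B)))) :
    RPC (ψ.comp f) m
      ((QA B).obj (((ModuleCat.extendScalars.{u, u, u} ψ).mapHomologicalComplex (ComplexShape.up ℤ)).obj E)) := by
  rw [rpc_comp_iff]
  exact rpc_congr f ((QA A').mapIso ((NatIso.mapHomologicalComplex (extendRestrictIso ψ)
    (ComplexShape.up ℤ)).app E).symm ≪≫
    (restrictDIso ψ (((ModuleCat.extendScalars.{u, u, u} ψ).mapHomologicalComplex (ComplexShape.up ℤ)).obj E)).symm)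
    (rpc_tensor f E hflat h hb ↑((ModuleCat.restrictScalars ψ).obj (ModuleCat.of B B)) hB)

end Tensor

theorem ext_comp_iso {A A' B : Type u} [CommRing A] [CommRing A'] [CommRing B] (f : A →+* A')
    (g : A' →+* B) (h : A →+* B) (hc : h = g.comp f) (E : DRing.Cx A) :
    Nonempty (((ModuleCat.extendScalars.{u, u, u} h).mapHomologicalComplex (ComplexShape.up ℤ)).obj E ≅
      ((ModuleCat.extendScalars.{u, u, u} g).mapHomologicalComplex (ComplexShape.up ℤ)).obj
        (((ModuleCat.extendScalars.{u, u, u} f).mapHomologicalComplex (ComplexShape.up ℤ)).obj E)) := by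
  subst hc
  exact ⟨(NatIso.mapHomologicalComplex (ModuleCat.extendScalarsComp f g) (ComplexShape.up ℤ)).app E⟩

section LBC

variable {R A B : Type u} [CommRing R] [CommRing A] [CommRing B] [Algebra R A] [Algebra A B]
  [Algebra R B] [IsScalarTower R A B] [Algebra.FiniteType R A] [Algebra.FiniteType A B]

/-- Relative pseudo-coherence of the base change of a bounded above flat complex. -/
theorem rel_ext (hB : DerCA.IsRelPseudoCoherentModuleAll A B B) (m : ℤ) (E : DRing.Cx A) (b : ℤ)
    (hb : DRing.VanishesAbove E b) (hflat : ∀ i, Module.Flat A (E.X i))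
    (h : DerCA.IsRelPseudoCoherent R A m ((QA A).obj E)) :
    DerCA.IsRelPseudoCoherent R B m
      ((QA B).obj (((extA A B).mapHomologicalComplex (ComplexShape.up ℤ)).obj E)) := by
  obtain ⟨n, φ, hφ⟩ := PCH.exists_surj R A
  obtain ⟨k, ψ, hψ⟩ := PCH.exists_surj A B
  letI := φ.toRingHom.toAlgebra
  haveI : IsScalarTower R (MvPolynomial (Fin n) R) A := IsScalarTower.of_algHom φ
  letI := ψ.toRingHom.toAlgebra
  haveI : IsScalarTower A (MvPolynomial (Fin k) A) B := IsScalarTower.of_algHom ψ
  letI : Algebra (MvPolynomial (Fin k) (MvPolynomial (Fin n) R)) B :=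
    (ψ.toRingHom.comp (algebraMap (MvPolynomial (Fin k) (MvPolynomial (Fin n) R))
      (MvPolynomial (Fin k) A))).toAlgebra
  obtain ⟨_, _, hs, -, -⟩ := PCH.comp_square n k φ hφ ψ hψ
  haveI : Algebra.FinitePresentation R (MvPolynomial (Fin k) (MvPolynomial (Fin n) R)) :=
    Algebra.FinitePresentation.mvPolynomial_of_finitePresentation _
  haveI : Module.Flat R (MvPolynomial (Fin k) (MvPolynomial (Fin n) R)) :=
    Module.Flat.trans R (MvPolynomial (Fin n) R) _
  haveI : Module.Flat A (MvPolynomial (Fin k) A) := inferInstance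
  rw [via_iff φ hφ] at h
  rw [rel_iff (IsScalarTower.toAlgHom R (MvPolynomial (Fin k) (MvPolynomial (Fin n) R)) B) hs]
  let E' := ((extA A (MvPolynomial (Fin k) A)).mapHomologicalComplex (ComplexShape.up ℤ)).obj E
  have h' := rpc_ext (T := MvPolynomial (Fin k) (MvPolynomial (Fin n) R))
    (A' := MvPolynomial (Fin k) A) (P := MvPolynomial (Fin n) R) m E h
  have hB' : ∀ l, PC l (Dual.inD (MvPolynomial (Fin k) A)
      ((ModuleCat.restrictScalars (algebraMap (MvPolynomial (Fin k) A) B)).obj (ModuleCat.of B B))) :=
    PCM.pc_self (pc'_of_relModuleAll (P := MvPolynomial (Fin k) A) hB hψ)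
  have hE' : ∀ i, Module.Flat (MvPolynomial (Fin k) A) (E'.X i) := fun i =>
    flat_extendScalars (algebraMap A (MvPolynomial (Fin k) A)) (M := E.X i) (hflat i)
  have h'' := rpc_ext_pc _ E' hE' (algebraMap (MvPolynomial (Fin k) A) B) h'
    (fun i hi => (extA A _).map_isZero (hb i hi)) hB'
  have hc : algebraMap A B =
      (algebraMap (MvPolynomial (Fin k) A) B).comp (algebraMap A (MvPolynomial (Fin k) A)) :=
    IsScalarTower.algebraMap_eq _ _ _
  obtain ⟨e⟩ := ext_comp_iso _ _ _ hc E
  exact rpc_congr _ ((QA B).mapIso e.symm) h''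

theorem exists_free_rep {m : ℤ} (K : Dual.D A) (h : DerCA.IsRelPseudoCoherent R A m K) :
    ∃ (E : DRing.Cx A) (b : ℤ), DRing.VanishesAbove E b ∧ (∀ i, Module.Flat A (E.X i)) ∧
      DRing.IsKFlat A E ∧ Nonempty ((QA A).obj E ≅ K) := by
  obtain ⟨n, α, -, h⟩ := h
  obtain ⟨b, hb⟩ := acyc_of_pc h
  obtain ⟨E, hE1, hE2, e⟩ := rep_free_of_acyc
    (((acyc_restrictD_iff _ K b).1 hb).mono (show b ≤ b + 1 by omega))
  exact ⟨E, b, (vanishesAbove_iff E b).2 hE1, fun i => flat_of_FR (hE2 i),
    isKFlat_of_rep (fun _ => flat_of_FR) hE1 hE2, e⟩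

theorem rel_LBC (hB : DerCA.IsRelPseudoCoherentModuleAll A B B)
    [DRing.HasLBaseChange (algebraMap A B)] (m : ℤ) (K : Dual.D A)
    (h : DerCA.IsRelPseudoCoherent R A m K) :
    DerCA.IsRelPseudoCoherent R B m ((DRing.LBaseChange (algebraMap A B)).obj K) := by
  obtain ⟨E, b, hb, hflat, hk, ⟨e⟩⟩ := exists_free_rep K h
  exact rel_of_iso ((LBaseChangeIso (algebraMap A B) E hk).symm ≪≫
    (DRing.LBaseChange (algebraMap A B)).mapIso e) (rel_ext hB m E b hb hflat (rel_of_iso e.symm h))

theorem rel_module_baseChange [Module.Flat A B] (hB : DerCA.IsRelPseudoCoherentModuleAll A B B)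
    (m : ℤ) (M : Type u) [AddCommGroup M] [Module A M]
    (h : DerCA.IsRelPseudoCoherentModule R A m M) :
    DerCA.IsRelPseudoCoherentModule R B m (B ⊗[A] M) := by
  obtain ⟨E, b, hb, hflat, hk, ⟨e⟩⟩ := exists_free_rep _ h
  obtain ⟨e'⟩ := rep_inD_baseChange (A := A) (B := B) M
  exact rel_of_iso ((DFQ (extA A B) E).symm ≪≫ (DF (extA A B)).mapIso e ≪≫ e')
    (rel_ext hB m E b hb hflat (rel_of_iso e.symm h))

end LBC

section Away

/-- The image of an element in a localisation of a presentation. -/
theorem rpc_away {P A : Type u} [CommRing P] [CommRing A] [Algebra P A] (G : P)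
    (S : Type u) [CommRing S] [Algebra A S] [IsLocalization.Away (algebraMap P A G) S] (m : ℤ)
    (K : DRing.Cx A) (h : RPC (algebraMap P A) m ((QA A).obj K)) :
    RPC (IsLocalization.Away.map (Localization.Away G) S (algebraMap P A) G) m
      ((QA S).obj (((extA A S).mapHomologicalComplex (ComplexShape.up ℤ)).obj K)) := by
  letI : Algebra (Localization.Away G) S :=
    (IsLocalization.Away.map (Localization.Away G) S (algebraMap P A) G).toAlgebra
  letI : Algebra P S := ((algebraMap A S).comp (algebraMap P A)).toAlgebra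
  haveI : IsScalarTower P A S := IsScalarTower.of_algebraMap_eq fun x => rfl
  haveI : IsScalarTower P (Localization.Away G) S := IsScalarTower.of_algebraMap_eq fun x => by
    show algebraMap A S (algebraMap P A x) =
      IsLocalization.Away.map (Localization.Away G) S (algebraMap P A) G (algebraMap P _ x)
    simp [IsLocalization.Away.map, IsLocalization.map_eq]
  haveI : IsLocalization (Algebra.algebraMapSubmonoid A (Submonoid.powers G)) S := by
    rw [Algebra.algebraMapSubmonoid, Submonoid.map_powers]; infer_instance
  haveI : Algebra.IsPushout P (Localization.Away G) A S :=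
    (Algebra.isPushout_of_isLocalization (Submonoid.powers G) (Localization.Away G) A S).symm
  haveI : Module.Flat P (Localization.Away G) := IsLocalization.flat _ (Submonoid.powers G)
  exact rpc_ext m K h

/-- Relative pseudo-coherence of a localisation, from any flat finitely presented algebra. -/
theorem rel_away {R P A : Type u} [CommRing R] [CommRing P] [CommRing A] [Algebra R P] [Algebra R A]
    [Algebra P A] [IsScalarTower R P A] [Module.Flat R P] [Algebra.FinitePresentation R P]
    (hφ : Function.Surjective (algebraMap P A)) (G : P) (g : A) (hG : algebraMap P A G = g) (m : ℤ)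
    (K : DRing.Cx A) (h : RPC (algebraMap P A) m ((QA A).obj K)) :
    DerCA.IsRelPseudoCoherent R (Localization.Away g) m
      ((QA _).obj (((extA A (Localization.Away g)).mapHomologicalComplex (ComplexShape.up ℤ)).obj K)) := by
  subst hG
  obtain ⟨hs, -⟩ := PCH.away_square hφ G (Localization.Away (algebraMap P A G))
  haveI : Module.Flat P (Localization.Away G) := IsLocalization.flat _ (Submonoid.powers G)
  haveI : Module.Flat R (Localization.Away G) := Module.Flat.trans R P _
  haveI : Algebra.FinitePresentation P (Localization.Away G) :=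
    IsLocalization.Away.finitePresentation G
  haveI : Algebra.FinitePresentation R (Localization.Away G) := Algebra.FinitePresentation.trans R P _
  let χ : Localization.Away G →ₐ[R] Localization.Away (algebraMap P A G) :=
    { IsLocalization.Away.map (Localization.Away G) (Localization.Away (algebraMap P A G)) (algebraMap P A) G with
      commutes' := fun r => by
        show IsLocalization.Away.map _ _ _ _ (algebraMap R (Localization.Away G) r) = _
        rw [IsScalarTower.algebraMap_apply R P (Localization.Away G)]
        simp [IsLocalization.Away.map, IsLocalization.map_eq]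
        rw [← IsScalarTower.algebraMap_apply R P A, ← IsScalarTower.algebraMap_apply R A] }
  exact (rel_iff χ hs m _).2 (rpc_away G (Localization.Away (algebraMap P A G)) m K h)

theorem rel_of_span {R A : Type u} [CommRing R] [CommRing A] [Algebra R A] [Algebra.FiniteType R A]
    (K : DRing.Cx A) (m : ℤ) {r : ℕ} (f : Fin r → A) (hf : Ideal.span (Set.range f) = ⊤)
    (h : ∀ i, DerCA.IsRelPseudoCoherent R (Localization.Away (f i)) m
      ((QA _).obj (((extA A (Localization.Away (f i))).mapHomologicalComplex (ComplexShape.up ℤ)).obj K))) :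
    DerCA.IsRelPseudoCoherent R A m ((QA A).obj K) := by
  obtain ⟨n, φ, hφ⟩ := PCH.exists_surj R A
  letI := φ.toRingHom.toAlgebra
  haveI : IsScalarTower R (MvPolynomial (Fin n) R) A := IsScalarTower.of_algHom φ
  rw [via_iff φ hφ]
  choose G hG using fun i => hφ (f i)
  obtain ⟨p, hp, hp1⟩ : ∃ p ∈ Ideal.span (Set.range G), φ p = 1 := by
    have h1 : (1 : A) ∈ (Ideal.span (Set.range G)).map φ := by
      rw [Ideal.map_span, ← Set.range_comp, show φ ∘ G = f from funext hG, hf]
      exact Submodule.mem_top
    obtain ⟨p, hp, hp'⟩ := (Ideal.mem_map_iff_of_surjective φ hφ).1 h1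
    exact ⟨p, hp, hp'⟩
  let G' : Fin (r + 1) → MvPolynomial (Fin n) R := Fin.cons (1 - p) G
  have hG' : Ideal.span (Set.range G') = ⊤ := by
    rw [Ideal.eq_top_iff_one]
    have h0 : 1 - p ∈ Ideal.span (Set.range G') := Ideal.subset_span ⟨0, by simp [G']⟩
    have hp' : p ∈ Ideal.span (Set.range G') :=
      Ideal.span_mono (by rintro _ ⟨i, rfl⟩; exact ⟨i.succ, by simp [G']⟩) hp
    simpa using Ideal.add_mem _ h0 hp'
  have hj : ∀ j, PC m ((DF (extA (MvPolynomial (Fin n) R) (Localization.Away (G' j)))).obj
      ((DRing.restrictD (φ : MvPolynomial (Fin n) R →+* A)).obj ((QA A).obj K))) := by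
    intro j
    let P := MvPolynomial (Fin n) R
    let S := Localization.Away (algebraMap P A (G' j))
    letI : Algebra (Localization.Away (G' j)) S :=
      (IsLocalization.Away.map (Localization.Away (G' j)) S (algebraMap P A) (G' j)).toAlgebra
    haveI : IsScalarTower P A S := inferInstance
    haveI : IsScalarTower P (Localization.Away (G' j)) S := IsScalarTower.of_algebraMap_eq fun x => by
      rw [IsScalarTower.algebraMap_apply P A S]
      show algebraMap A S (algebraMap P A x) =
        IsLocalization.Away.map (Localization.Away (G' j)) S (algebraMap P A) (G' j) (algebraMap P _ x)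
      simp [IsLocalization.Away.map, IsLocalization.map_eq]
    haveI : IsLocalization (Algebra.algebraMapSubmonoid A (Submonoid.powers (G' j))) S := by
      rw [Algebra.algebraMapSubmonoid, Submonoid.map_powers]; infer_instance
    haveI : Algebra.IsPushout P (Localization.Away (G' j)) A S :=
      (Algebra.isPushout_of_isLocalization (Submonoid.powers (G' j)) (Localization.Away (G' j)) A S).symm
    obtain ⟨ν⟩ := pushoutNatIso P (Localization.Away (G' j)) A S
    have hS : RPC (algebraMap (Localization.Away (G' j)) S) m
        ((QA S).obj (((extA A S).mapHomologicalComplex (ComplexShape.up ℤ)).obj K)) := by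
      rcases Fin.eq_zero_or_eq_succ j with rfl | ⟨i, rfl⟩
      · have h0 : algebraMap P A (G' 0) = 0 := by
          show φ (G' 0) = 0
          simp [G', hp1]
        haveI : Subsingleton S :=
          IsLocalization.subsingleton (S := S) (M := Submonoid.powers (algebraMap P A (G' 0)))
            ⟨1, (pow_one _).trans h0⟩
        refine pc_of_acyc ((acyc_restrictD_iff _ _ m).2 fun l _ => ?_)
        haveI : Subsingleton ((HF S l).obj ((QA S).obj
            (((extA A S).mapHomologicalComplex (ComplexShape.up ℤ)).obj K))) :=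
          Module.subsingleton S _
        exact ModuleCat.isZero_of_subsingleton _
      · haveI : Module.Flat P (Localization.Away (G' i.succ)) :=
          IsLocalization.flat _ (Submonoid.powers (G' i.succ))
        haveI : Module.Flat R (Localization.Away (G' i.succ)) := Module.Flat.trans R P _
        haveI : Algebra.FinitePresentation P (Localization.Away (G' i.succ)) :=
          IsLocalization.Away.finitePresentation (G' i.succ)
        haveI : Algebra.FinitePresentation R (Localization.Away (G' i.succ)) :=
          Algebra.FinitePresentation.trans R P _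
        have e : algebraMap P A (G' i.succ) = f i := by
          show φ (G' i.succ) = f i
          simp [G', hG]
        have key : ∀ c : A, c = f i → DerCA.IsRelPseudoCoherent R (Localization.Away c) m
            ((QA _).obj (((extA A (Localization.Away c)).mapHomologicalComplex (ComplexShape.up ℤ)).obj K)) := by
          rintro c rfl; exact h i
        obtain ⟨hs, -⟩ := PCH.away_square hφ (G' i.succ) S
        let χ : Localization.Away (G' i.succ) →ₐ[R] S :=
          { algebraMap (Localization.Away (G' i.succ)) S with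
            commutes' := fun a => by
              show algebraMap _ S (algebraMap R (Localization.Away (G' i.succ)) a) = _
              rw [IsScalarTower.algebraMap_apply R P (Localization.Away (G' i.succ)),
                ← IsScalarTower.algebraMap_apply P (Localization.Away (G' i.succ)) S,
                IsScalarTower.algebraMap_apply P A S, ← IsScalarTower.algebraMap_apply R P A,
                ← IsScalarTower.algebraMap_apply R A S] }
        exact (rel_iff χ hs m _).1 (key _ e)
    exact PC.of_iso hS (restrictDIso _ _ ≪≫ (QA _).mapIso ((NatIso.mapHomologicalComplex ν _).app K) ≪≫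
      (DFQ (extA P (Localization.Away (G' j))) ((DRing.restrictCx (algebraMap P A)).obj K)).symm ≪≫
      (DF (extA P (Localization.Away (G' j)))).mapIso (restrictDIso (algebraMap P A) K).symm)
  choose b hb using fun j => acyc_of_pc (hj j)
  haveI : ∀ j, Module.Flat (MvPolynomial (Fin n) R) (Localization.Away (G' j)) :=
    fun j => IsLocalization.flat _ (Submonoid.powers (G' j))
  exact pc_descent (B := fun j => Localization.Away (G' j)) (isZero_of_away G' hG') (finite_of_away G' hG')
    (b := ∑ j, |b j|) (fun j => (hb j).mono ((le_abs_self _).trans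
      (Finset.single_le_sum (fun j _ => abs_nonneg (b j)) (Finset.mem_univ j)))) hj

end Away

end Groth.Agent.RelPC41
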