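import Groth.Agent.RelPC41.Basic
import Groth.Agent.FlatMor67.PCFinite

/-! Relative pseudo-coherence: finite maps and pseudo-coherent intermediate algebras. -/

set_option autoImplicit false
set_option backward.isDefEq.respectTransparency.types false
set_option linter.style.haveILetI false

universe u

open CategoryTheory CategoryTheory.Limits
open scoped TensorProduct

attribute [local instance] HasDerivedCategory.standard MvPolynomial.algebraMvPolynomial

namespace Groth.Agent.RelPC41

open DR39 FlatMor67

variable {R A B : Type u} [CommRing R] [CommRing A] [CommRing B] [Algebra R A]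

/-- The ring is pseudo-coherent over any flat finitely presented algebra surjecting onto it. -/
theorem pc'_of_relModuleAll (hA : DerCA.IsRelPseudoCoherentModuleAll R A A) {P : Type u} [CommRing P]
    [Algebra R P] [Module.Flat R P] [Algebra.FinitePresentation R P] [Algebra P A]
    [IsScalarTower R P A] (hφ : Function.Surjective (algebraMap P A)) :
    DRing.IsPseudoCoherentModule' P A := by
  obtain ⟨e⟩ := PCM.rest_inD (A := P) (B := A) A
  exact (pc'_iff_forall_pc _).2 fun n =>
    (((rel_iff (IsScalarTower.toAlgHom R P A) hφ n _).1 (hA n)).of_iso e)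

variable [Algebra A B] [Algebra R B] [IsScalarTower R A B]

theorem rel_finite_iff [Algebra.FiniteType R A] [Module.Finite A B] (m : ℤ) (K : Dual.D B) :
    DerCA.IsRelPseudoCoherent R B m K ↔
      DerCA.IsRelPseudoCoherent R A m ((DRing.restrictD (algebraMap A B)).obj K) := by
  obtain ⟨n, α, hα⟩ := PCH.exists_surj R A
  let P := MvPolynomial (Fin n) R
  letI : Algebra P A := α.toRingHom.toAlgebra
  letI : Algebra P B := ((algebraMap A B).comp α.toRingHom).toAlgebra
  haveI : IsScalarTower P A B := IsScalarTower.of_algebraMap_eq fun x => rfl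
  haveI : IsScalarTower R P B := IsScalarTower.of_algebraMap_eq fun r => by
    show algebraMap R B r = algebraMap A B (α (algebraMap R P r))
    rw [α.commutes, ← IsScalarTower.algebraMap_apply]
  haveI : Module.Finite P A := Module.Finite.of_surjective (Algebra.linearMap P A) hα
  haveI : Module.Finite P B := Module.Finite.trans A B
  obtain ⟨s, hs⟩ := (inferInstance : Module.Finite P B).fg_top
  obtain ⟨T, _, _, _, _, π, hπ⟩ := PCF.exists_free_algHom (A := P) s fun b _ => IsIntegral.of_finite P b
  letI : Algebra R T := ((algebraMap P T).comp (algebraMap R P)).toAlgebra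
  haveI : IsScalarTower R P T := IsScalarTower.of_algebraMap_eq fun r => rfl
  haveI : Module.FinitePresentation P T := Module.finitePresentation_of_projective P T
  haveI : Algebra.FinitePresentation P T := inferInstance
  haveI : Algebra.FinitePresentation R T := Algebra.FinitePresentation.trans R P T
  haveI : Module.Flat R T := Module.Flat.trans R P T
  have hsurj : Function.Surjective (π.restrictScalars R) := by
    intro b
    have hb : b ∈ Submodule.span P (s : Set B) := by rw [hs]; trivial
    have : Submodule.span P (s : Set B) ≤ LinearMap.range π.toLinearMap :=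
      Submodule.span_le.2 fun c hc => hπ hc
    exact this hb
  have hT : ∀ k, PC k (Dual.inD P ((ModuleCat.restrictScalars (algebraMap P T)).obj (ModuleCat.of T T))) :=
    PCM.pc_self ((pc'_iff_forall_pc _).2 fun k => pc_of_bff (bff_inD_of_free T))
  rw [rel_iff (π.restrictScalars R) hsurj m K, via_iff α hα, ← rpc_comp_iff,
    ← rpc_comp_pc (algebraMap P T) hT]
  rw [show ((π.restrictScalars R : T →ₐ[R] B) : T →+* B).comp (algebraMap P T) =
    (algebraMap A B).comp (α : P →+* A) from RingHom.ext fun x => π.commutes x]

theorem rel_intermediate_iff [Algebra.FiniteType R A] [Algebra.FiniteType A B]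
    (hA : DerCA.IsRelPseudoCoherentModuleAll R A A) (m : ℤ) (K : Dual.D B) :
    DerCA.IsRelPseudoCoherent A B m K ↔ DerCA.IsRelPseudoCoherent R B m K := by
  obtain ⟨n, φ, hφ⟩ := PCH.exists_surj R A
  obtain ⟨k, ψ, hψ⟩ := PCH.exists_surj A B
  letI := φ.toRingHom.toAlgebra
  haveI : IsScalarTower R (MvPolynomial (Fin n) R) A := IsScalarTower.of_algHom φ
  have hP : DRing.IsPseudoCoherentModule' (MvPolynomial (Fin n) R) A := pc'_of_relModuleAll hA hφ
  letI := ψ.toRingHom.toAlgebra
  letI : Algebra (MvPolynomial (Fin k) (MvPolynomial (Fin n) R)) B :=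
    (ψ.toRingHom.comp (algebraMap (MvPolynomial (Fin k) (MvPolynomial (Fin n) R))
      (MvPolynomial (Fin k) A))).toAlgebra
  obtain ⟨_, _, hs, hpc, -⟩ := PCH.comp_square n k φ hφ ψ hψ
  haveI : Algebra.FinitePresentation R (MvPolynomial (Fin k) (MvPolynomial (Fin n) R)) :=
    Algebra.FinitePresentation.mvPolynomial_of_finitePresentation _
  haveI : Module.Flat R (MvPolynomial (Fin k) (MvPolynomial (Fin n) R)) :=
    Module.Flat.trans R (MvPolynomial (Fin n) R) _
  rw [via_iff ψ hψ, rel_iff (IsScalarTower.toAlgHom R (MvPolynomial (Fin k) (MvPolynomial (Fin n) R)) B) hs,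
    ← rpc_comp_pc (algebraMap (MvPolynomial (Fin k) (MvPolynomial (Fin n) R)) (MvPolynomial (Fin k) A))
      (PCM.pc_self (hpc hP))]
  rfl

end Groth.Agent.RelPC41
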